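import Cfsg.Agent.Lib.CosetEnum.J1x25080.Data

/-! Checks of the certificate. -/

set_option autoImplicit false
set_option maxRecDepth 20000
set_option Elab.async false

namespace Cfsg.Agent.Lib.CosetEnum.J1x25080

open Cfsg.Agent.Lib.CosetEnum

theorem defs_ok : defsOK data 40249 = true := by decide +kernel

theorem edges_part0 : allFrom 0 10000 (edgeAt data 89333 25080 table vert edge) = true := by decide +kernel

theorem edges_part1 : allFrom 10000 10000 (edgeAt data 89333 25080 table vert edge) = true := by decide +kernel

theorem edges_part2 : allFrom 20000 5080 (edgeAt data 89333 25080 table vert edge) = true := by decide +kernel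

theorem edges_ok : edgesOK data 89333 25080 table vert edge = true :=
  (allBelow_add (allBelow_add (allBelow_add (rfl : allBelow 0 (edgeAt data 89333 25080 table vert edge) = true) edges_part0
    (by omega : 0 + 10000 = 10000)) edges_part1
    (by omega : 10000 + 10000 = 20000)) edges_part2
    (by omega : 20000 + 5080 = 25080))

theorem perm_part0 : allFrom 0 15000 (permAt letters.K letters.IV 25080 table) = true := by decide +kernel

theorem perm_part1 : allFrom 15000 10080 (permAt letters.K letters.IV 25080 table) = true := by decide +kernel

theorem perm_ok : permOK letters.K letters.IV 25080 table = true :=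
  (allBelow_add (allBelow_add (rfl : allBelow 0 (permAt letters.K letters.IV 25080 table) = true) perm_part0
    (by omega : 0 + 15000 = 15000)) perm_part1
    (by omega : 15000 + 10080 = 25080))

theorem rels_part0 : allFrom 0 1818 (relAt letters.K table letters.RL) = true := by decide +kernel

theorem rels_part1 : allFrom 1818 1818 (relAt letters.K table letters.RL) = true := by decide +kernel

theorem rels_part2 : allFrom 3636 1818 (relAt letters.K table letters.RL) = true := by decide +kernel

theorem rels_part3 : allFrom 5454 1818 (relAt letters.K table letters.RL) = true := by decide +kernel

theorem rels_part4 : allFrom 7272 1818 (relAt letters.K table letters.RL) = true := by decide +kernel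

theorem rels_part5 : allFrom 9090 1818 (relAt letters.K table letters.RL) = true := by decide +kernel

theorem rels_part6 : allFrom 10908 1818 (relAt letters.K table letters.RL) = true := by decide +kernel

theorem rels_part7 : allFrom 12726 1818 (relAt letters.K table letters.RL) = true := by decide +kernel

theorem rels_part8 : allFrom 14544 1818 (relAt letters.K table letters.RL) = true := by decide +kernel

theorem rels_part9 : allFrom 16362 1818 (relAt letters.K table letters.RL) = true := by decide +kernel

theorem rels_part10 : allFrom 18180 1818 (relAt letters.K table letters.RL) = true := by decide +kernel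

theorem rels_part11 : allFrom 19998 1818 (relAt letters.K table letters.RL) = true := by decide +kernel

theorem rels_part12 : allFrom 21816 1818 (relAt letters.K table letters.RL) = true := by decide +kernel

theorem rels_part13 : allFrom 23634 1446 (relAt letters.K table letters.RL) = true := by decide +kernel

theorem rels_ok : relsOK letters.K 25080 table letters.RL = true :=
  (allBelow_add (allBelow_add (allBelow_add (allBelow_add (allBelow_add (allBelow_add (allBelow_add (allBelow_add (allBelow_add (allBelow_add (allBelow_add (allBelow_add (allBelow_add (allBelow_add (rfl : allBelow 0 (relAt letters.K table letters.RL) = true) rels_part0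
    (by omega : 0 + 1818 = 1818)) rels_part1
    (by omega : 1818 + 1818 = 3636)) rels_part2
    (by omega : 3636 + 1818 = 5454)) rels_part3
    (by omega : 5454 + 1818 = 7272)) rels_part4
    (by omega : 7272 + 1818 = 9090)) rels_part5
    (by omega : 9090 + 1818 = 10908)) rels_part6
    (by omega : 10908 + 1818 = 12726)) rels_part7
    (by omega : 12726 + 1818 = 14544)) rels_part8
    (by omega : 14544 + 1818 = 16362)) rels_part9
    (by omega : 16362 + 1818 = 18180)) rels_part10
    (by omega : 18180 + 1818 = 19998)) rels_part11
    (by omega : 19998 + 1818 = 21816)) rels_part12
    (by omega : 21816 + 1818 = 23634)) rels_part13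
    (by omega : 23634 + 1446 = 25080))

theorem reach_ok : reachOK letters.K 25080 table parent = true := by decide +kernel


end Cfsg.Agent.Lib.CosetEnum.J1x25080
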