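import Cfsg.Agent.Lib.CosetEnum.J1x25080.Check0
import Cfsg.Agent.Lib.CosetEnum.J1x25080.Check1
import Cfsg.Agent.Lib.CosetEnum.J1x25080.Check2
import Cfsg.Agent.Lib.CosetEnum.J1x25080.Check3
import Cfsg.Agent.Lib.CosetEnum.J1x25080.Check4
import Cfsg.Agent.Lib.CosetEnum.J1x25080.Check5
import Cfsg.Agent.Lib.CosetEnum.J1x25080.CheckTable

/-! Checks of the certificate. -/

set_option autoImplicit false
set_option maxRecDepth 20000
set_option Elab.async false

namespace Cfsg.Agent.Lib.CosetEnum.J1x25080

open Cfsg.Agent.Lib.CosetEnum

theorem letters_ok : letters.OK := by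
  refine ⟨by decide +kernel, by decide +kernel, ?_, ?_, ?_⟩ <;> decide +kernel

theorem table_ok : TableOK letters 25080 table where
  col := by decide +kernel
  symcol := by decide +kernel
  invol := by decide +kernel
  perm := perm_ok
  rel l hl i hi := relsOK_rel rels_ok hi hl

theorem sameRels : SameRels letters pres := Cfsg.Agent.Lib.ExactCover.sameRels _ _ _

/-- The enumerated index and action. -/
theorem enum : Enumerated letters
    pres
    (subOf letters _ subWords) 25080 table :=
  enumerated letters _
    sameRels
    letters_ok 25080 table parent (by omega) table_ok reach_ok data 40249 89333 rfl subWords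
    (by decide +kernel)
    (fun φ hφ => hφ ▸ Letters.valid sameRels.1 letters_ok table_ok.col rfl rfl subWords (by decide +kernel) rfl rfl
      (by decide +kernel))
    (fun φ hV => (chunks_sound hV part30 part30_ok.1 part30_ok.2
      (chunks_sound hV part29 part29_ok.1 part29_ok.2
      (chunks_sound hV part28 part28_ok.1 part28_ok.2
      (chunks_sound hV part27 part27_ok.1 part27_ok.2
      (chunks_sound hV part26 part26_ok.1 part26_ok.2
      (chunks_sound hV part25 part25_ok.1 part25_ok.2
      (chunks_sound hV part24 part24_ok.1 part24_ok.2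
      (chunks_sound hV part23 part23_ok.1 part23_ok.2
      (chunks_sound hV part22 part22_ok.1 part22_ok.2
      (chunks_sound hV part21 part21_ok.1 part21_ok.2
      (chunks_sound hV part20 part20_ok.1 part20_ok.2
      (chunks_sound hV part19 part19_ok.1 part19_ok.2
      (chunks_sound hV part18 part18_ok.1 part18_ok.2
      (chunks_sound hV part17 part17_ok.1 part17_ok.2
      (chunks_sound hV part16 part16_ok.1 part16_ok.2
      (chunks_sound hV part15 part15_ok.1 part15_ok.2
      (chunks_sound hV part14 part14_ok.1 part14_ok.2
      (chunks_sound hV part13 part13_ok.1 part13_ok.2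
      (chunks_sound hV part12 part12_ok.1 part12_ok.2
      (chunks_sound hV part11 part11_ok.1 part11_ok.2
      (chunks_sound hV part10 part10_ok.1 part10_ok.2
      (chunks_sound hV part9 part9_ok.1 part9_ok.2
      (chunks_sound hV part8 part8_ok.1 part8_ok.2
      (chunks_sound hV part7 part7_ok.1 part7_ok.2
      (chunks_sound hV part6 part6_ok.1 part6_ok.2
      (chunks_sound hV part5 part5_ok.1 part5_ok.2
      (chunks_sound hV part4 part4_ok.1 part4_ok.2
      (chunks_sound hV part3 part3_ok.1 part3_ok.2
      (chunks_sound hV part2 part2_ok.1 part2_ok.2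
      (chunks_sound hV part1 part1_ok.1 part1_ok.2
      (chunks_sound hV part0 part0_ok.1 part0_ok.2
      (fun i hi => good_defs defs_ok hi)))))))))))))))))))))))))))))))))
    vert edge (by decide +kernel) edges_ok

end Cfsg.Agent.Lib.CosetEnum.J1x25080
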